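import Groth.Prelude.Def_MeroDiv
import Groth.Agent.MeroX.Basic
import Groth.Agent.QCoh.Stalk
import Groth.Agent.QCoh.Support
import Mathlib

/-!
# Divisors on a Noetherian scheme whose closed points have one-dimensional local rings
-/

universe u

open CategoryTheory AlgebraicGeometry TopologicalSpace Opposite

namespace Groth.Agent.MeroCurveLib

open QCoh

variable {X : Scheme.{u}}

theorem finite_of_forall_closed [NoetherianSpace X] (W : X.Opens) {S : Set W} (hS : IsClosed S)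
    (h : ∀ s : W, s ∈ S → IsClosed ({s.1} : Set X)) : S.Finite := by
  haveI : TopologicalSpace.NoetherianSpace W := inferInstanceAs (TopologicalSpace.NoetherianSpace (W : Set X))
  haveI : QuasiSober W := inferInstanceAs (QuasiSober (W : Scheme.{u}))
  obtain ⟨T, hTfin, hTcl, hTirr, hTeq⟩ := TopologicalSpace.NoetherianSpace.exists_finite_set_isClosed_irreducible hS
  rw [hTeq]
  refine hTfin.sUnion fun Z hZ => Set.Subsingleton.finite ?_
  obtain ⟨g, hg⟩ := QuasiSober.sober (hTirr Z hZ) (hTcl Z hZ)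
  have hgS : g ∈ S := by rw [hTeq]; exact ⟨Z, hZ, hg.mem⟩
  have hgc : IsClosed ({g} : Set W) := by
    have he : ({g} : Set W) = (fun z : W => (z : X)) ⁻¹' {g.1} := by
      ext z; exact Subtype.ext_iff
    rw [he]
    exact IsClosed.preimage continuous_subtype_val (h g hgS)
  rw [← hg, closure_eq_iff_isClosed.2 hgc]
  exact Set.subsingleton_singleton

/-- A section whose germ at a point is a nonzerodivisor is regular nearby. -/
theorem exists_regular_nhd [IsLocallyNoetherian X] {V : X.Opens} (hV : IsAffineOpen V) (a : Γ(X, V)) {x : X}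
    (hx : x ∈ V) (ha : X.presheaf.germ V x hx a ∈ nonZeroDivisors (X.presheaf.stalk x)) :
    ∃ (V' : X.Opens) (h : V' ≤ V), x ∈ V' ∧ X.presheaf.map (homOfLE h).op a ∈ Mero.regSub X V' := by
  classical
  haveI : IsNoetherianRing Γ(X, V) := IsLocallyNoetherian.component_noetherian ⟨V, hV⟩
  let J : Ideal Γ(X, V) := LinearMap.ker (LinearMap.mulRight Γ(X, V) a)
  have hJ : ∀ b ∈ J, b * a = 0 := fun b hb => LinearMap.mem_ker.1 hb
  obtain ⟨G, hG⟩ := (IsNoetherian.noetherian J : J.FG)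
  have hkill : ∀ b : G, ∃ W : X.Opens, x ∈ W ∧ ∀ y (hy : y ∈ V), y ∈ W → X.presheaf.germ V y hy b.1 = 0 := by
    intro b
    have h0 : X.presheaf.germ V x hx b.1 = 0 := mem_nonZeroDivisors_iff_right.1 ha _ (by
      rw [← map_mul, hJ b.1 (hG ▸ Submodule.subset_span b.2), map_zero])
    obtain ⟨W, hxW, i, j, e⟩ := X.presheaf.germ_eq x hx hx b.1 0 (h0.trans (map_zero _).symm)
    refine ⟨W, hxW, fun y hy hyW => ?_⟩
    rw [← X.presheaf.germ_res_apply i y hyW b.1, e, map_zero, map_zero]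
  choose W hxW hW using hkill
  obtain ⟨V', hxV', hV'⟩ : ∃ V' : X.Opens, x ∈ V' ∧ ∀ b, V' ≤ W b :=
    ⟨⟨⋂ b : G, (W b : Set X), isOpen_iInter_of_finite fun b => (W b).2⟩, Set.mem_iInter.2 hxW,
      fun b y hy => Set.mem_iInter.1 hy b⟩
  refine ⟨V ⊓ V', inf_le_left, ⟨hx, hxV'⟩, fun y => ?_⟩
  rw [X.presheaf.germ_res_apply]
  have hyV : y.1 ∈ V := y.2.1
  let := X.presheaf.algebra_section_stalk ⟨y.1, hyV⟩
  have := hV.isLocalization_stalk ⟨y.1, hyV⟩
  rw [mem_nonZeroDivisors_iff_right]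
  intro w hw
  obtain ⟨c, t, rfl⟩ := IsLocalization.exists_mk'_eq (hV.primeIdealOf ⟨y.1, hyV⟩).asIdeal.primeCompl w
  have h1 : algebraMap Γ(X, V) (X.presheaf.stalk y.1) (c * a) = 0 := by
    change IsLocalization.mk' (X.presheaf.stalk y.1) c t * algebraMap Γ(X, V) (X.presheaf.stalk y.1) a = 0 at hw
    rw [map_mul, ← IsLocalization.mk'_spec (X.presheaf.stalk y.1) c t, mul_right_comm, hw, zero_mul]
  obtain ⟨t', ht'⟩ := (IsLocalization.map_eq_zero_iff (hV.primeIdealOf ⟨y.1, hyV⟩).asIdeal.primeCompl _ _).1 h1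
  have hJz : ∀ b ∈ J, algebraMap Γ(X, V) (X.presheaf.stalk y.1) b = 0 := by
    intro b hb
    rw [← hG] at hb
    refine Submodule.span_induction (fun g hg => hW ⟨g, hg⟩ y.1 hyV (hV' _ y.2.2)) (map_zero _)
      (fun _ _ _ _ p q => by rw [map_add, p, q, add_zero]) (fun r _ _ p => by rw [smul_eq_mul, map_mul, p, mul_zero]) hb
  have h2 := hJz (t'.1 * c) (LinearMap.mem_ker.2 (by
    change t'.1 * c * a = 0
    rw [mul_assoc]; exact ht'))
  rw [map_mul] at h2
  have h3 : algebraMap Γ(X, V) (X.presheaf.stalk y.1) c = 0 :=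
    (IsLocalization.map_units (X.presheaf.stalk y.1) t').mul_right_eq_zero.1 h2
  rw [IsLocalization.mk'_eq_zero_iff]
  exact (IsLocalization.map_eq_zero_iff (hV.primeIdealOf ⟨y.1, hyV⟩).asIdeal.primeCompl _ _).1 h3

theorem primeIdealOf_le {V : X.Opens} (hV : IsAffineOpen V) {y z : X} (hy : y ∈ V) (hz : z ∈ V) (h : z ⤳ y) :
    hV.primeIdealOf ⟨z, hz⟩ ≤ hV.primeIdealOf ⟨y, hy⟩ := by
  refine (PrimeSpectrum.le_iff_specializes _ _).2 (hV.fromSpec.isOpenEmbedding.isInducing.specializes_iff.1 ?_)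
  rw [hV.fromSpec_primeIdealOf, hV.fromSpec_primeIdealOf]
  exact h

theorem specializes_of_le {V : X.Opens} (hV : IsAffineOpen V) {y z : X} (hy : y ∈ V) (hz : z ∈ V)
    (h : hV.primeIdealOf ⟨z, hz⟩ ≤ hV.primeIdealOf ⟨y, hy⟩) : z ⤳ y := by
  have h' := hV.fromSpec.isOpenEmbedding.isInducing.specializes_iff.2 ((PrimeSpectrum.le_iff_specializes _ _).1 h)
  rwa [hV.fromSpec_primeIdealOf, hV.fromSpec_primeIdealOf] at h'

variable [AlgebraicGeometry.IsNoetherian X]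
  (hC : ∀ x : X, IsClosed ({x} : Set X) → ringKrullDim (X.presheaf.stalk x) = 1)

include hC in
theorem eq_of_specializes {y y' : X} (hy : ¬ IsClosed ({y} : Set X)) (h : y' ⤳ y) : y' = y := by
  by_contra hne
  obtain ⟨x, hx, hcl⟩ := (isClosed_closure (s := ({y} : Set X))).exists_closed_singleton ⟨y, subset_closure rfl⟩
  have hyx : y ⤳ x := specializes_iff_mem_closure.2 hx
  obtain ⟨_, ⟨V, hV, rfl⟩, hxV, -⟩ :=
    X.isBasis_affineOpens.exists_subset_of_mem_open (Set.mem_univ x) isOpen_univ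
  have hyV : y ∈ V := hyx.mem_open V.2 hxV
  have hy'V : y' ∈ V := h.mem_open V.2 hyV
  have hlt1 : hV.primeIdealOf ⟨y', hy'V⟩ < hV.primeIdealOf ⟨y, hyV⟩ :=
    lt_of_le_of_ne (primeIdealOf_le hV hyV hy'V h) fun e => hne (by
      have := congrArg hV.fromSpec e
      rwa [hV.fromSpec_primeIdealOf, hV.fromSpec_primeIdealOf] at this)
  have hlt2 : hV.primeIdealOf ⟨y, hyV⟩ < hV.primeIdealOf ⟨x, hxV⟩ :=
    lt_of_le_of_ne (primeIdealOf_le hV hxV hyV hyx) fun e => hy (by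
      have := congrArg hV.fromSpec e
      rw [hV.fromSpec_primeIdealOf, hV.fromSpec_primeIdealOf] at this
      rw [show y = x from this]; exact hcl)
  let := X.presheaf.algebra_section_stalk ⟨x, hxV⟩
  have := hV.isLocalization_stalk ⟨x, hxV⟩
  have hd := hC x hcl
  rw [IsLocalization.AtPrime.ringKrullDim_eq_height (hV.primeIdealOf ⟨x, hxV⟩).asIdeal] at hd
  have h1 : (1 : ℕ∞) ≤ (hV.primeIdealOf ⟨y, hyV⟩).asIdeal.height :=
    le_trans le_add_self (Ideal.height_add_one_le_of_lt_of_isPrime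
      (show (hV.primeIdealOf ⟨y', hy'V⟩).asIdeal < _ from hlt1))
  have h2 : (hV.primeIdealOf ⟨y, hyV⟩).asIdeal.height + 1 ≤ (hV.primeIdealOf ⟨x, hxV⟩).asIdeal.height :=
    Ideal.height_add_one_le_of_lt_of_isPrime (show (hV.primeIdealOf ⟨y, hyV⟩).asIdeal < _ from hlt2)
  have h3 : (hV.primeIdealOf ⟨x, hxV⟩).asIdeal.height = (1 : ℕ∞) := by exact_mod_cast hd
  rw [h3] at h2
  have h4 : (1 : ℕ∞) + 1 ≤ 1 := le_trans (add_le_add h1 le_rfl) h2
  exact absurd h4 (by decide)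

include hC in
theorem isUnit_of_notClosed {y : X} (hy : ¬ IsClosed ({y} : Set X)) {r : X.presheaf.stalk y}
    (hr : r ∈ nonZeroDivisors (X.presheaf.stalk y)) : IsUnit r := by
  obtain ⟨_, ⟨V, hV, rfl⟩, hyV, -⟩ :=
    X.isBasis_affineOpens.exists_subset_of_mem_open (Set.mem_univ y) isOpen_univ
  let := X.presheaf.algebra_section_stalk ⟨y, hyV⟩
  have := hV.isLocalization_stalk ⟨y, hyV⟩
  by_contra hu
  have hnil : IsNilpotent r := by
    rw [nilpotent_iff_mem_prime]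
    intro Q hQ
    suffices Q = IsLocalRing.maximalIdeal (X.presheaf.stalk y) by rw [this]; exact hu
    have hd := (IsLocalization.isPrime_iff_isPrime_disjoint (hV.primeIdealOf ⟨y, hyV⟩).asIdeal.primeCompl _ Q).1 hQ
    obtain ⟨z, hzV, hz⟩ := exists_point hV ⟨_, hd.1⟩
    have hle : hV.primeIdealOf ⟨z, hzV⟩ ≤ hV.primeIdealOf ⟨y, hyV⟩ := by
      rw [hz]
      intro c hc
      by_contra hcy
      exact Set.disjoint_left.1 hd.2 hcy hc
    have hzy := eq_of_specializes hC hy (specializes_of_le hV hyV hzV hle)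
    have h5 : (hV.primeIdealOf ⟨y, hyV⟩).asIdeal = Ideal.comap (algebraMap Γ(X, V) (X.presheaf.stalk y)) Q := by
      subst hzy; exact congrArg PrimeSpectrum.asIdeal hz
    rw [← IsLocalization.map_comap (hV.primeIdealOf ⟨y, hyV⟩).asIdeal.primeCompl _ Q,
      show Ideal.under Γ(X, V) Q = _ from h5.symm]
    exact IsLocalization.AtPrime.map_eq_maximalIdeal _ _
  obtain ⟨m, hm⟩ := hnil
  have h0 : (0 : X.presheaf.stalk y) ∈ nonZeroDivisors (X.presheaf.stalk y) := hm ▸ pow_mem hr m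
  exact zero_notMem_nonZeroDivisors h0

/-- A fraction of regular sections as a unit. -/
noncomputable def fracUnit {V : X.Opens} (a b : Mero.regSub X V) : (Γ(Mero.kmod X, V))ˣ where
  val := ⟨fun y => LocalizedModule.mk (X.presheaf.germ V y.1 y.2 a.1) (Mero.regGerm y b),
    fun y => ⟨V, y.2, 𝟙 _, a.1, b, fun _ => rfl⟩⟩
  inv := ⟨fun y => LocalizedModule.mk (X.presheaf.germ V y.1 y.2 b.1) (Mero.regGerm y a),
    fun y => ⟨V, y.2, 𝟙 _, b.1, a, fun _ => rfl⟩⟩
  val_inv := Subtype.ext (funext fun y => by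
    rw [Mero.kmod_mul_apply, Mero.kmod_one_apply]
    exact LocalizedModule.mk_mul_mk.trans ((Mero.mk_congr (mul_comm _ _) rfl).trans
      (Mero.mk_self_eq_one (Mero.regGerm y b * Mero.regGerm y a))))
  inv_val := Subtype.ext (funext fun y => by
    rw [Mero.kmod_mul_apply, Mero.kmod_one_apply]
    exact LocalizedModule.mk_mul_mk.trans ((Mero.mk_congr (mul_comm _ _) rfl).trans
      (Mero.mk_self_eq_one (Mero.regGerm y a * Mero.regGerm y b))))

theorem mk_eq_one {y : X} (q : (Mero.KStalk X y)ˣ) (a : X.presheaf.stalk y) (b : Mero.regStalk X y)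
    (ha : IsUnit a) (hb : IsUnit (b : X.presheaf.stalk y)) (hq : (q : Mero.KStalk X y) = LocalizedModule.mk a b) :
    (QuotientGroup.mk q : Mero.Germ X y) = 1 := by
  rw [QuotientGroup.eq_one_iff]
  refine ⟨ha.unit * hb.unit⁻¹, Units.ext ?_⟩
  rw [hq]
  change (LocalizedModule.mk (a * ((hb.unit⁻¹ : (X.presheaf.stalk y)ˣ) : X.presheaf.stalk y)) 1 : Mero.KStalk X y) = _
  refine LocalizedModule.mk_eq.2 ⟨1, ?_⟩
  simp only [one_smul, Submonoid.smul_def, smul_eq_mul]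
  rw [← mul_assoc, mul_comm (b : X.presheaf.stalk y), mul_assoc, hb.mul_val_inv, mul_one]

include hC in
theorem mem_divisorGroup_of (g : ∀ x : X, Mero.Germ X x) (hfin : {x : X | g x ≠ 1}.Finite)
    (hgen : ∀ x : X, ¬ IsClosed ({x} : Set X) → g x = 1) : g ∈ Mero.divisorGroup X := by
  have hclosed : ∀ x, g x ≠ 1 → IsClosed ({x} : Set X) := fun x hx => by_contra fun h => hx (hgen x h)
  intro x
  obtain ⟨q, hq⟩ := QuotientGroup.mk_surjective (g x)
  obtain ⟨⟨a', s'⟩, hqe⟩ : ∃ p : X.presheaf.stalk x × Mero.regStalk X x,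
      (q : Mero.KStalk X x) = LocalizedModule.mk p.1 p.2 := by
    induction (q : Mero.KStalk X x) using LocalizedModule.induction_on with
    | h a s => exact ⟨(a, s), rfl⟩
  have ha' : a' ∈ nonZeroDivisors (X.presheaf.stalk x) := by
    obtain ⟨⟨c, d⟩, hd⟩ : ∃ p : X.presheaf.stalk x × Mero.regStalk X x,
        ((q⁻¹ : (Mero.KStalk X x)ˣ) : Mero.KStalk X x) = LocalizedModule.mk p.1 p.2 := by
      induction ((q⁻¹ : (Mero.KStalk X x)ˣ) : Mero.KStalk X x) using LocalizedModule.induction_on with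
      | h a s => exact ⟨(a, s), rfl⟩
    have h := q.mul_inv
    rw [hqe, hd] at h
    dsimp only at h
    replace h := LocalizedModule.mk_mul_mk.symm.trans (h.trans (Mero.mk_self_eq_one (1 : Mero.regStalk X x)).symm)
    obtain ⟨t, ht⟩ := LocalizedModule.mk_eq.1 h
    simp only [Submonoid.smul_def, smul_eq_mul, Submonoid.coe_one, one_mul, mul_one] at ht
    have hr : (t : X.presheaf.stalk x) * (a' * c) ∈ nonZeroDivisors (X.presheaf.stalk x) := by
      rw [ht]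
      exact mul_mem (Mero.regStalk_le_nonZeroDivisors x t.2) (Mero.regStalk_le_nonZeroDivisors x (s' * d).2)
    exact (mul_mem_nonZeroDivisors.1 (mul_mem_nonZeroDivisors.1 hr).2).1
  obtain ⟨W, hxW, a, hae⟩ := X.presheaf.exists_germ_eq (x := x) a'
  obtain ⟨W', hxW', b, hb, hbe⟩ := s'.2
  obtain ⟨_, ⟨V, hV, rfl⟩, hxV, hle⟩ :=
    X.isBasis_affineOpens.exists_subset_of_mem_open (show x ∈ W ⊓ W' from ⟨hxW, hxW'⟩) (W ⊓ W').2
  obtain ⟨V', hV'le, hxV', haR⟩ := exists_regular_nhd hV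
    (X.presheaf.map (homOfLE (fun _ h => (hle h).1 : V ≤ W)).op a) hxV (by rw [X.presheaf.germ_res_apply, hae]; exact ha')
  let A : Mero.regSub X V' := ⟨_, haR⟩
  let B : Mero.regSub X V' :=
    ⟨X.presheaf.map (homOfLE (fun _ h => (hle (hV'le h)).2 : V' ≤ W')).op b, Mero.regSub_res _ hb⟩
  have hA : X.presheaf.germ V' x hxV' A.1 = a' := by
    rw [X.presheaf.germ_res_apply, X.presheaf.germ_res_apply]; exact hae
  have hB : X.presheaf.germ V' x hxV' B.1 = s'.1 := by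
    rw [X.presheaf.germ_res_apply]; exact hbe
  let S : Set V' := {y | ¬ (IsUnit (X.presheaf.germ V' y.1 y.2 A.1) ∧ IsUnit (X.presheaf.germ V' y.1 y.2 B.1))}
  have hS : IsClosed S := by
    rw [← isOpen_compl_iff]
    have : Sᶜ = (fun y : V' => (y : X)) ⁻¹' ((X.basicOpen A.1 : Set X) ∩ X.basicOpen B.1) := by
      ext y
      exact not_not.trans (and_congr (X.mem_basicOpen A.1 y.1 y.2).symm (X.mem_basicOpen B.1 y.1 y.2).symm)
    rw [this]
    exact ((X.basicOpen A.1).2.inter (X.basicOpen B.1).2).preimage continuous_subtype_val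
  have hScl : ∀ y : V', y ∈ S → IsClosed ({y.1} : Set X) := fun y hy => by_contra fun hc =>
    hy ⟨isUnit_of_notClosed hC hc (A.2 y), isUnit_of_notClosed hC hc (B.2 y)⟩
  let Bad : Set X := (Subtype.val '' S ∪ {z | g z ≠ 1}) \ {x}
  have hBad : IsClosed Bad := by
    refine (Set.biUnion_of_singleton Bad) ▸ Set.Finite.isClosed_biUnion
      ((((finite_of_forall_closed V' hS hScl).image _).union hfin).subset Set.sdiff_subset) ?_
    rintro z ⟨⟨y, hy, rfl⟩ | hz, -⟩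
    · exact hScl y hy
    · exact hclosed z hz
  let U : X.Opens := V' ⊓ ⟨Badᶜ, hBad.isOpen_compl⟩
  have hUV : U ≤ V' := inf_le_left
  have hxU : x ∈ U := ⟨hxV', fun h => h.2 rfl⟩
  have key : g x = Mero.germOf (fracUnit ⟨_, Mero.regSub_res (homOfLE hUV) A.2⟩
      ⟨_, Mero.regSub_res (homOfLE hUV) B.2⟩) ⟨x, hxU⟩ := by
    rw [← hq]
    refine congrArg QuotientGroup.mk (Units.ext (hqe.trans ?_))
    exact Mero.mk_congr (((X.presheaf.germ_res_apply (homOfLE hUV) x hxU A.1).trans hA).symm)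
      (((X.presheaf.germ_res_apply (homOfLE hUV) x hxU B.1).trans hB).symm)
  refine ⟨U, hxU, fracUnit ⟨_, Mero.regSub_res (homOfLE hUV) A.2⟩ ⟨_, Mero.regSub_res (homOfLE hUV) B.2⟩,
    fun y => ?_⟩
  by_cases hyx : y.1 = x
  · obtain rfl : y = ⟨x, hxU⟩ := Subtype.ext hyx
    exact key
  · have hnb : y.1 ∉ Subtype.val '' S ∪ {z | g z ≠ 1} := fun h => y.2.2 ⟨h, hyx⟩
    have hS' : (⟨y.1, y.2.1⟩ : V') ∉ S := fun h => hnb (Or.inl ⟨_, h, rfl⟩)
    replace hS' := not_not.1 (show ¬¬ (IsUnit (X.presheaf.germ V' y.1 y.2.1 A.1) ∧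
      IsUnit (X.presheaf.germ V' y.1 y.2.1 B.1)) from hS')
    rw [not_not.1 (fun h => hnb (Or.inr h)), eq_comm]
    refine mk_eq_one _ (X.presheaf.germ U y.1 y.2 (X.presheaf.map (homOfLE hUV).op A.1))
      (Mero.regGerm y ⟨_, Mero.regSub_res (homOfLE hUV) B.2⟩) ?_ ?_ rfl
    · rw [X.presheaf.germ_res_apply]; exact hS'.1
    · change IsUnit (X.presheaf.germ U y.1 y.2 (X.presheaf.map (homOfLE hUV).op B.1))
      rw [X.presheaf.germ_res_apply]; exact hS'.2

include hC in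
theorem finite_of_mem_divisorGroup (g : ∀ x : X, Mero.Germ X x) (hg : g ∈ Mero.divisorGroup X) :
    {x : X | g x ≠ 1}.Finite ∧ ∀ x : X, ¬ IsClosed ({x} : Set X) → g x = 1 := by
  have hloc : ∀ x : X, ∃ (V : X.Opens) (_ : x ∈ V) (A B : Mero.regSub X V), ∀ y : V,
      IsUnit (X.presheaf.germ V y.1 y.2 A.1) → IsUnit (X.presheaf.germ V y.1 y.2 B.1) → g y.1 = 1 := by
    intro x
    obtain ⟨U, hx, f, hf⟩ := hg x
    obtain ⟨V, hxV, i, a, b, w⟩ := (f : Γ(Mero.kmod X, U)).2 ⟨x, hx⟩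
    obtain ⟨V2, hxV2, i2, c, d, w2⟩ := ((f⁻¹ : (Γ(Mero.kmod X, U))ˣ) : Γ(Mero.kmod X, U)).2 ⟨x, hx⟩
    have hreg : X.presheaf.map (homOfLE (inf_le_left : V ⊓ V2 ≤ V)).op a ∈ Mero.regSub X (V ⊓ V2) := by
      intro y
      rw [X.presheaf.germ_res_apply]
      have h := congrArg (fun t : Γ(Mero.kmod X, U) => t.1 (i ⟨y.1, y.2.1⟩)) f.mul_inv
      simp only [Mero.kmod_mul_apply, Mero.kmod_one_apply] at h
      have e1 := w ⟨y.1, y.2.1⟩
      have e2 := w2 ⟨y.1, y.2.2⟩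
      dsimp only at e1 e2
      rw [e1, show ((f⁻¹ : (Γ(Mero.kmod X, U))ˣ) : Γ(Mero.kmod X, U)).1 (i ⟨y.1, y.2.1⟩) = _ from e2] at h
      replace h := LocalizedModule.mk_mul_mk.symm.trans (h.trans (Mero.mk_self_eq_one (1 : Mero.regStalk X y.1)).symm)
      obtain ⟨t, ht⟩ := LocalizedModule.mk_eq.1 h
      simp only [Submonoid.smul_def, smul_eq_mul, Submonoid.coe_one, one_mul, mul_one] at ht
      exact (mul_mem_nonZeroDivisors.1 (mul_mem_nonZeroDivisors.1 (ht ▸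
        mul_mem (Mero.regStalk_le_nonZeroDivisors _ t.2) (Mero.regStalk_le_nonZeroDivisors _ (Subtype.prop _)))).2).1
    refine ⟨V ⊓ V2, ⟨hxV, hxV2⟩, ⟨_, hreg⟩, ⟨_, Mero.regSub_res (homOfLE inf_le_left) b.2⟩, fun y ha hb => ?_⟩
    rw [X.presheaf.germ_res_apply] at ha hb
    refine (hf (i ⟨y.1, y.2.1⟩)).trans ?_
    exact mk_eq_one _ (X.presheaf.germ V y.1 y.2.1 a) (Mero.regGerm ⟨y.1, y.2.1⟩ b) ha hb (w ⟨y.1, y.2.1⟩)
  choose V hxV A B hAB using hloc
  have hgen : ∀ x : X, ¬ IsClosed ({x} : Set X) → g x = 1 := fun x hx =>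
    hAB x ⟨x, hxV x⟩ (isUnit_of_notClosed hC hx ((A x).2 ⟨x, hxV x⟩)) (isUnit_of_notClosed hC hx ((B x).2 ⟨x, hxV x⟩))
  refine ⟨?_, hgen⟩
  obtain ⟨T, hT⟩ := isCompact_univ.elim_finite_subcover (fun x => (V x : Set X)) (fun x => (V x).2)
    (fun x _ => Set.mem_iUnion.2 ⟨x, hxV x⟩)
  let S : ∀ x, Set (V x) := fun x =>
    (fun y : V x => (y : X)) ⁻¹' ((X.basicOpen (A x).1 : Set X) ∩ X.basicOpen (B x).1)ᶜ
  have hSfin : ∀ x, (S x).Finite := fun x =>
    finite_of_forall_closed (V x)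
      (((X.basicOpen (A x).1).2.inter (X.basicOpen (B x).1).2).isClosed_compl.preimage continuous_subtype_val)
      fun y hy => by_contra fun hc => hy ⟨(X.mem_basicOpen _ y.1 y.2).2 (isUnit_of_notClosed hC hc ((A x).2 y)),
        (X.mem_basicOpen _ y.1 y.2).2 (isUnit_of_notClosed hC hc ((B x).2 y))⟩
  refine (T.finite_toSet.biUnion fun x _ => (hSfin x).image Subtype.val).subset fun y hy => ?_
  obtain ⟨x, hxT, hyx⟩ := Set.mem_iUnion₂.1 (hT (Set.mem_univ y))
  refine Set.mem_iUnion₂.2 ⟨x, hxT, ⟨y, hyx⟩, fun h => hy ?_, rfl⟩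
  exact hAB x ⟨y, hyx⟩ ((X.mem_basicOpen _ y hyx).1 h.1) ((X.mem_basicOpen _ y hyx).1 h.2)

end Groth.Agent.MeroCurveLib
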