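import Groth.Agent.MeroCurveLib.Basic

/-!
# Effective divisors on an absolute curve
-/

universe u

open CategoryTheory AlgebraicGeometry TopologicalSpace Opposite

namespace Groth.Agent.MeroCurveLib

variable {X : Scheme.{u}}

/-- On a locally Noetherian scheme every nonzerodivisor germ is a germ of a regular section. -/
theorem mem_regStalk [IsLocallyNoetherian X] {x : X} {a : X.presheaf.stalk x}
    (ha : a ∈ nonZeroDivisors (X.presheaf.stalk x)) : a ∈ Mero.regStalk X x := by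
  obtain ⟨W, hxW, b, rfl⟩ := X.presheaf.exists_germ_eq (x := x) a
  obtain ⟨_, ⟨V, hV, rfl⟩, hxV, hle⟩ :=
    X.isBasis_affineOpens.exists_subset_of_mem_open (show x ∈ W from hxW) W.2
  have hle' : V ≤ W := hle
  obtain ⟨V', h, hxV', hR⟩ := exists_regular_nhd hV (X.presheaf.map (homOfLE hle').op b) hxV
    (by rw [X.presheaf.germ_res_apply]; exact ha)
  refine ⟨V', hxV', _, hR, ?_⟩
  rw [X.presheaf.germ_res_apply, X.presheaf.germ_res_apply]

/-- The class of a regular germ. -/
noncomputable def cls {x : X} (a : Mero.regStalk X x) : Mero.Germ X x :=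
  QuotientGroup.mk (IsLocalization.map_units (Mero.KStalk X x) a).unit

theorem cls_one (x : X) : cls (1 : Mero.regStalk X x) = 1 := by
  rw [cls, show (IsLocalization.map_units (Mero.KStalk X x) (1 : Mero.regStalk X x)).unit = 1 from
    Units.ext (by rw [IsUnit.unit_spec, Units.val_one]; exact map_one _), QuotientGroup.mk_one]

theorem isUnit_of_cls_eq_one {x : X} {a : Mero.regStalk X x} (h : cls a = 1) :
    IsUnit (a : X.presheaf.stalk x) := by
  obtain ⟨u, hu⟩ := (QuotientGroup.eq_one_iff _).1 h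
  have h2 : algebraMap (X.presheaf.stalk x) (Mero.KStalk X x) u.1 =
      algebraMap (X.presheaf.stalk x) (Mero.KStalk X x) a.1 := congrArg Units.val hu
  exact IsLocalization.injective (Mero.KStalk X x) (Mero.regStalk_le_nonZeroDivisors x) h2 ▸ u.isUnit

/-- Every germ of a divisor is a quotient of two effective ones. -/
theorem exists_cls_div [IsLocallyNoetherian X] {x : X} (g : Mero.Germ X x) :
    ∃ a s : Mero.regStalk X x, g = cls a * (cls s)⁻¹ := by
  obtain ⟨q, rfl⟩ := QuotientGroup.mk_surjective g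
  have hfrac : ∀ z : Mero.KStalk X x, ∃ p : X.presheaf.stalk x × Mero.regStalk X x,
      z = IsLocalization.mk' (Mero.KStalk X x) p.1 p.2 := fun z =>
    let ⟨p, s, h⟩ := IsLocalization.exists_mk'_eq (Mero.regStalk X x) z; ⟨(p, s), h.symm⟩
  obtain ⟨⟨a, s⟩, hq⟩ := hfrac q
  obtain ⟨⟨c, d⟩, hd⟩ := hfrac ((q⁻¹ : (Mero.KStalk X x)ˣ) : Mero.KStalk X x)
  dsimp only at hq hd
  have h := q.mul_inv
  rw [hq, hd, ← IsLocalization.mk'_mul, IsLocalization.mk'_eq_iff_eq_mul, one_mul] at h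
  have h2 : a * c = ((s * d : Mero.regStalk X x) : X.presheaf.stalk x) :=
    IsLocalization.injective (Mero.KStalk X x) (Mero.regStalk_le_nonZeroDivisors x) h
  have ha : a ∈ nonZeroDivisors (X.presheaf.stalk x) :=
    (mul_mem_nonZeroDivisors.1 (h2 ▸ Mero.regStalk_le_nonZeroDivisors x (s * d).2)).1
  refine ⟨⟨a, mem_regStalk ha⟩, s, ?_⟩
  rw [cls, cls, ← QuotientGroup.mk_inv, ← QuotientGroup.mk_mul]
  refine congrArg _ (eq_mul_inv_iff_mul_eq.2 (Units.ext ?_))
  rw [Units.val_mul, IsUnit.unit_spec, IsUnit.unit_spec, hq, IsLocalization.mk'_spec]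

variable [AlgebraicGeometry.IsNoetherian X]
  (hC : ∀ x : X, IsClosed ({x} : Set X) → ringKrullDim (X.presheaf.stalk x) = 1)

include hC in
/-- An open set which is infinite around the generic point of a component has a closed point with a regular
nonunit germ. -/
theorem exists_regular_nonunit (hpt : ∀ x : X, ¬ IsOpen ({x} : Set X)) {η : X} {V : X.Opens}
    (hV : IsAffineOpen V) (hη : η ∈ V) (hgen : ∀ y ∈ V, η ⤳ y) :
    ∃ y ∈ V, IsClosed ({y} : Set X) ∧ ∃ a : Mero.regStalk X y, ¬ IsUnit (a : X.presheaf.stalk y) := by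
  classical
  haveI : IsNoetherianRing Γ(X, V) := IsLocallyNoetherian.component_noetherian ⟨V, hV⟩
  have hcl : ∀ y ∈ V, y ≠ η → IsClosed ({y} : Set X) := fun y hy hne => by_contra fun hc =>
    hne (eq_of_specializes hC hc (hgen y hy)).symm
  by_contra hcon
  push Not at hcon
  let T : Set X := {y | ∃ hy : y ∈ V, (hV.primeIdealOf ⟨y, hy⟩).asIdeal ∈ associatedPrimes Γ(X, V) Γ(X, V)}
  have hTfin : T.Finite := by
    refine ((associatedPrimes.finite Γ(X, V) Γ(X, V)).image
      (fun p => if h : p.IsPrime then hV.fromSpec ⟨p, h⟩ else η)).subset ?_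
    rintro y ⟨hy, hp⟩
    refine ⟨_, hp, ?_⟩
    exact (dif_pos (hV.primeIdealOf ⟨y, hy⟩).isPrime).trans (hV.fromSpec_primeIdealOf ⟨y, hy⟩)
  have hcover : ∀ y ∈ V, y ≠ η → y ∈ T := by
    intro y hy hne
    refine ⟨hy, ?_⟩
    let P := (hV.primeIdealOf ⟨y, hy⟩).asIdeal
    have hsub : (P : Set Γ(X, V)) ⊆ ⋃ p ∈ associatedPrimes Γ(X, V) Γ(X, V), (p : Set Γ(X, V)) := by
      intro f hf
      rw [biUnion_associatedPrimes_eq_zero_divisors]
      by_contra hz
      have hf0 : f ∈ nonZeroDivisors Γ(X, V) := mem_nonZeroDivisors_iff_right.2 fun z hz0 => by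
        by_contra hz1
        exact hz ⟨z, hz1, by rw [smul_eq_mul, mul_comm]; exact hz0⟩
      let := X.presheaf.algebra_section_stalk ⟨y, hy⟩
      have := hV.isLocalization_stalk ⟨y, hy⟩
      have hg : algebraMap Γ(X, V) (X.presheaf.stalk y) f ∈ nonZeroDivisors (X.presheaf.stalk y) :=
        IsLocalization.nonZeroDivisors_le_comap P.primeCompl (X.presheaf.stalk y) hf0
      have hnu : ¬ IsUnit (algebraMap Γ(X, V) (X.presheaf.stalk y) f) := fun hu =>
        ((IsLocalization.AtPrime.isUnit_to_map_iff (X.presheaf.stalk y) P f).1 hu) hf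
      exact hnu (hcon y hy (hcl y hy hne) ⟨_, mem_regStalk hg⟩)
    obtain ⟨p, hp, hle⟩ := (Ideal.subset_union_prime_finite (associatedPrimes.finite Γ(X, V) Γ(X, V))
      ⊥ ⊥ (fun p hp _ _ => (AssociatedPrimes.mem_iff.1 hp).1)).1 hsub
    have hpp : p.IsPrime := (AssociatedPrimes.mem_iff.1 hp).1
    let z := hV.fromSpec ⟨p, hpp⟩
    have hzV : z ∈ V := by
      have := hV.range_fromSpec.le ⟨⟨p, hpp⟩, rfl⟩
      exact this
    have hzp : hV.primeIdealOf ⟨z, hzV⟩ = ⟨p, hpp⟩ :=
      hV.fromSpec.isOpenEmbedding.injective (hV.fromSpec_primeIdealOf ⟨z, hzV⟩)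
    have hyz : y ⤳ z := specializes_of_le hV hzV hy (by rw [hzp]; exact hle)
    have hzy : z = y := Set.mem_singleton_iff.1 (hyz.mem_closed (hcl y hy hne) rfl)
    have : (hV.primeIdealOf ⟨y, hy⟩).asIdeal = p := by
      rw [show (⟨y, hy⟩ : V) = ⟨z, hzV⟩ from Subtype.ext hzy.symm, hzp]
    rw [this]; exact hp
  have hopen : IsOpen ((V : Set X) \ (T \ {η})) := by
    refine V.2.sdiff ?_
    refine (Set.biUnion_of_singleton (T \ {η})) ▸ Set.Finite.isClosed_biUnion (hTfin.subset Set.sdiff_subset) ?_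
    rintro y ⟨⟨hy, -⟩, hne⟩
    exact hcl y hy hne
  refine hpt η ?_
  convert hopen using 1
  ext y
  refine ⟨?_, fun ⟨hy, hn⟩ => by_contra fun hne => hn ⟨hcover y hy hne, hne⟩⟩
  rintro rfl
  exact ⟨hη, fun h => h.2 rfl⟩

end Groth.Agent.MeroCurveLib
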