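import Groth.Agent.MeroCurveLib.Decomp
import Groth.Agent.DivX.MeroMod
import Groth.Agent.Lib.CurveTensor
import Groth.Agent.Lib.CurveDeg
import Groth.Agent.Lib.InvEnd
import Groth.Agent.PureLib.Supported
import Groth.Agent.CurveCohLib.Rank

/-!
# Comparing fractional ideals of comparable divisors on a curve
-/

set_option linter.style.haveILetI false
set_option linter.unusedSectionVars false
set_option backward.isDefEq.respectTransparency false
set_option backward.isDefEq.respectTransparency.types false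

universe u

open CategoryTheory CategoryTheory.Limits AlgebraicGeometry TopologicalSpace Opposite

namespace Groth.Agent.MeroCurveLib

variable {X : Scheme.{u}}

/-- The inclusion of fractional ideals given by an inclusion of the conditions. -/
noncomputable def inclMap (D D' : Mero.Divisor X)
    (h : ∀ x t, Mero.DivCond D x t → Mero.DivCond D' x t) : Mero.divMod D ⟶ Mero.divMod D' :=
  ⟨PresheafOfModules.homMk (M₁ := (Mero.divMod D).val) (M₂ := (Mero.divMod D').val)
    { app := fun U => AddCommGrpCat.ofHom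
        { toFun := fun (t : Γ(Mero.divMod D, U.unop)) =>
            (⟨t.1, t.2.1, fun y => h y.1 _ (t.2.2 y)⟩ : Γ(Mero.divMod D', U.unop))
          map_zero' := rfl
          map_add' := fun _ _ => rfl }
      naturality := by intros; rfl }
    (fun _ _ _ => rfl)⟩

theorem inclMap_val (D D' : Mero.Divisor X) (h : ∀ x t, Mero.DivCond D x t → Mero.DivCond D' x t)
    {U : X.Opens} (t : Γ(Mero.divMod D, U)) : ((inclMap D D' h).app U t).1 = t.1 := rfl

theorem mono_inclMap (D D' : Mero.Divisor X) (h : ∀ x t, Mero.DivCond D x t → Mero.DivCond D' x t) :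
    Mono (inclMap D D' h) := InvEnd.mono_of_app_injective _ fun W s t hst =>
  Subtype.ext ((inclMap_val D D' h s).symm.trans ((congrArg Subtype.val hst).trans (inclMap_val D D' h t)))

/-- Functions satisfy the condition of an effective divisor. -/
theorem divCond_of_isEffective {E : Mero.Divisor X} (hE : Mero.IsEffective E) (x : X) (t : Mero.KStalk X x)
    (ht : Mero.DivCond (1 : Mero.Divisor X) x t) : Mero.DivCond E x t := by
  obtain ⟨a, ha⟩ := hE x
  refine DivX.divCond_of_rep ha ?_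
  obtain ⟨r, hr⟩ := ht 1 (QuotientGroup.mk_one _).symm
  rw [Units.val_one, mul_one] at hr
  exact ⟨r * a.1, by rw [map_mul, hr, IsUnit.unit_spec]⟩

/-- The module of the trivial divisor is the structure sheaf. -/
theorem nonempty_iso_divMod_one : Nonempty (Coh.structureModule X ≅ Mero.divMod (1 : Mero.Divisor X)) := by
  have h : ∀ y : (⊤ : X.Opens), (1 : Mero.Divisor X).1 y.1 = Mero.germOf (1 : (Γ(Mero.kmod X, ⊤))ˣ) y :=
    fun y => by rw [Mero.germOf, map_one, QuotientGroup.mk_one]; rfl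
  let φ := InvX.ofSect (DivX.gen (1 : (Γ(Mero.kmod X, ⊤))ˣ) h)
  haveI : IsIso φ := DivX.isIso_of_frames φ fun x => ⟨⊤, trivial, _, InvX.isFrame_one ⊤, by
    rw [show φ.app ⊤ (show Γ(Coh.structureModule X, ⊤) from (1 : Γ(X, ⊤))) = DivX.gen (1 : (Γ(Mero.kmod X, ⊤))ˣ) h
      from InvX.one_ofSect _]
    exact DivX.isFrame_gen _ h⟩
  exact ⟨asIso φ⟩

/-- Triviality of the germ of a divisor is an open condition. -/
theorem exists_nhd_eq_one (E : Mero.Divisor X) {y : X} (hy : E.1 y = 1) :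
    ∃ W : X.Opens, y ∈ W ∧ ∀ z ∈ W, E.1 z = 1 := by
  obtain ⟨U, hyU, f, hf⟩ := E.2 y
  obtain ⟨u, hu⟩ := (QuotientGroup.eq_one_iff _).1 ((hf ⟨y, hyU⟩).symm.trans hy)
  obtain ⟨W, hyW, i, a, b, hab⟩ := (f : Γ(Mero.kmod X, U)).2 ⟨y, hyU⟩
  have h1 : algebraMap (X.presheaf.stalk y) (Mero.KStalk X y) u.1 =
      LocalizedModule.mk (X.presheaf.germ W y hyW a) (Mero.regGerm ⟨y, hyW⟩ b) :=
    (congrArg Units.val hu).trans (hab ⟨y, hyW⟩)
  have h2 : u.1 * X.presheaf.germ W y hyW b.1 = X.presheaf.germ W y hyW a := by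
    refine Mero.algebraMap_KStalk_injective y ?_
    rw [map_mul, h1, ← IsLocalization.mk'_spec (Mero.KStalk X y) (X.presheaf.germ W y hyW a)
      (Mero.regGerm ⟨y, hyW⟩ b), ← Localization.mk_eq_mk']
    rfl
  obtain ⟨W₁, hy₁, c, hc⟩ := X.presheaf.exists_germ_eq (x := y) u.1
  have h3 : X.presheaf.germ (W₁ ⊓ W) y ⟨hy₁, hyW⟩
      (X.presheaf.map (homOfLE inf_le_left).op c * X.presheaf.map (homOfLE inf_le_right).op b.1) =
      X.presheaf.germ (W₁ ⊓ W) y ⟨hy₁, hyW⟩ (X.presheaf.map (homOfLE inf_le_right).op a) := by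
    rw [map_mul, X.presheaf.germ_res_apply, X.presheaf.germ_res_apply, X.presheaf.germ_res_apply, hc]
    exact h2
  obtain ⟨W₂, hy₂, j, j', hj⟩ := TopCat.Presheaf.germ_eq (U := W₁ ⊓ W) (V := W₁ ⊓ W) X.presheaf y ⟨hy₁, hyW⟩ ⟨hy₁, hyW⟩ _ _ h3
  refine ⟨W₂ ⊓ X.basicOpen c, ⟨hy₂, (X.mem_basicOpen c y hy₁).2 (hc ▸ u.isUnit)⟩, fun z hz => ?_⟩
  have hzW : z ∈ W := (j.le hz.1).2
  have hz₁ : z ∈ W₁ := (j.le hz.1).1
  have hu' : IsUnit (X.presheaf.germ W₁ z hz₁ c) := (X.mem_basicOpen c z hz₁).1 hz.2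
  have hjz := congrArg (X.presheaf.germ W₂ z hz.1) hj
  simp only [X.presheaf.germ_res_apply, map_mul] at hjz
  rw [hf ⟨z, i.le hzW⟩]
  refine (QuotientGroup.eq_one_iff _).2 ⟨hu'.unit, Units.ext ?_⟩
  refine Eq.trans ?_ (hab ⟨z, hzW⟩).symm
  show algebraMap (X.presheaf.stalk z) (Mero.KStalk X z) (X.presheaf.germ W₁ z hz₁ c) = _
  change _ = Localization.mk (X.presheaf.germ W z hzW a) (Mero.regGerm ⟨z, hzW⟩ b)
  rw [Localization.mk_eq_mk', IsLocalization.eq_mk'_iff_mul_eq, ← map_mul]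
  exact congrArg _ hjz

/-- At a non-closed point of a curve divisors are trivial. -/
theorem eq_one_of_notClosed [IsNoetherian X]
    (hequi : ∀ W ∈ irreducibleComponents (X : Type u), topologicalKrullDim W = 1)
    {E : Mero.Divisor X} (hE : Mero.IsEffective E) {y : X} (hy : ¬ IsClosed ({y} : Set X)) : E.1 y = 1 := by
  obtain ⟨a, ha⟩ := hE y
  obtain ⟨_, ⟨V, hV, rfl⟩, hyV, -⟩ :=
    X.isBasis_affineOpens.exists_subset_of_mem_open (Set.mem_univ y) isOpen_univ
  let := X.presheaf.algebra_section_stalk ⟨y, hyV⟩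
  haveI := hV.isLocalization_stalk ⟨y, hyV⟩
  haveI : IsNoetherianRing Γ(X, V) := IsLocallyNoetherian.component_noetherian ⟨V, hV⟩
  haveI : IsNoetherianRing (X.presheaf.stalk y) :=
    IsLocalization.isNoetherianRing (hV.primeIdealOf ⟨y, hyV⟩).asIdeal.primeCompl _ inferInstance
  have hmin : (hV.primeIdealOf ⟨y, hyV⟩).asIdeal ∈ minimalPrimes Γ(X, V) := by
    refine ⟨⟨(hV.primeIdealOf ⟨y, hyV⟩).isPrime, bot_le⟩, fun q hq hle => ?_⟩
    have hzV : hV.fromSpec ⟨q, hq.1⟩ ∈ V := hV.range_fromSpec.le ⟨_, rfl⟩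
    have hzp : hV.primeIdealOf ⟨_, hzV⟩ = ⟨q, hq.1⟩ :=
      hV.fromSpec.isOpenEmbedding.injective (hV.fromSpec_primeIdealOf ⟨_, hzV⟩)
    have hsp := specializes_of_le hV hyV hzV (by rw [hzp]; exact hle)
    have heq := PureLib.eq_of_specializes hequi hy hsp
    have : hV.primeIdealOf ⟨y, hyV⟩ = ⟨q, hq.1⟩ :=
      (congrArg hV.primeIdealOf (Subtype.ext heq.symm)).trans hzp
    rw [this]
  haveI : Ring.KrullDimLE 0 (X.presheaf.stalk y) := Ring.krullDimLE_iff.2 (by
    rw [IsLocalization.AtPrime.ringKrullDim_eq_height (hV.primeIdealOf ⟨y, hyV⟩).asIdeal,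
      Ideal.height_eq_zero_iff.2 hmin]
    exact le_rfl)
  haveI := IsNoetherianRing.isArtinianRing_of_krullDimLE_zero (R := X.presheaf.stalk y)
  have hu : IsUnit a.1 := IsArtinianRing.isUnit_of_mem_nonZeroDivisors (Mero.regStalk_le_nonZeroDivisors y a.2)
  rw [ha]
  exact (QuotientGroup.eq_one_iff _).2 ⟨hu.unit, Units.ext rfl⟩

/-- Where the divisor is trivial, the cokernel of `O ⟶ O(E)` vanishes. -/
theorem subsingleton_stalk_cokernel {E : Mero.Divisor X}
    (h : ∀ x t, Mero.DivCond (1 : Mero.Divisor X) x t → Mero.DivCond E x t) {y : X} (hy : E.1 y = 1) :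
    Subsingleton ((cokernel (inclMap 1 E h)).presheaf.stalk y) := by
  obtain ⟨W, hyW, hW⟩ := exists_nhd_eq_one E hy
  suffices hz : ∀ z : (cokernel (inclMap 1 E h)).presheaf.stalk y, z = 0 from
    ⟨fun p q => (hz p).trans (hz q).symm⟩
  intro z
  obtain ⟨(w : (Mero.divMod E).presheaf.stalk y), rfl⟩ :=
    (ModuleCat.epi_iff_surjective ((DerSch.stalkFunctor X y).map (cokernel.π (inclMap 1 E h)))).1
      inferInstance z
  obtain ⟨V, hyV, (s : Γ(Mero.divMod E, V)), rfl⟩ := TopCat.Presheaf.exists_germ_eq (Mero.divMod E).presheaf w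
  rw [← (Mero.divMod E).presheaf.germ_res_apply (homOfLE (inf_le_left : V ⊓ W ≤ V)) y ⟨hyV, hyW⟩ s]
  generalize (Mero.divMod E).presheaf.map (homOfLE (inf_le_left : V ⊓ W ≤ V)).op s = s'
  refine (TopCat.Presheaf.stalkFunctor_map_germ_apply (V ⊓ W) y ⟨hyV, hyW⟩
    ((Scheme.Modules.toPresheaf X).map (cokernel.π (inclMap 1 E h))) _).trans ?_
  refine (congrArg ((cokernel (inclMap 1 E h)).presheaf.germ (V ⊓ W) y ⟨hyV, hyW⟩) ?_).trans (map_zero _)
  have hpre : (inclMap 1 E h).app (V ⊓ W)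
      (⟨s'.1, s'.2.1, fun p g hg => s'.2.2 p g ((hW p.1 p.2.2).trans hg)⟩ : Γ(Mero.divMod (1 : Mero.Divisor X), V ⊓ W)) =
      s' := Subtype.ext rfl
  rw [← hpre]
  exact congr(($(cokernel.condition (inclMap 1 E h))).app (V ⊓ W) _)

variable (k : Type u) [Field k] [X.Over (Spec (CommRingCat.of k))]
  [IsProper (X ↘ Spec (CommRingCat.of k))]

/-- Adding an effective divisor adds at most its degree in sections. -/
theorem finrank_le_of_isEffective (hequi : ∀ W ∈ irreducibleComponents (X : Type u), topologicalKrullDim W = 1)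
    (D' E : Mero.Divisor X) (hE : Mero.IsEffective E) :
    Module.finrank k (Coh.HH X (Mero.divMod D') 0) ≤ Module.finrank k (Coh.HH X (Mero.divMod (D' * E)) 0) ∧
      (Module.finrank k (Coh.HH X (Mero.divMod (D' * E)) 0) : ℤ) ≤
        (Module.finrank k (Coh.HH X (Mero.divMod D') 0) : ℤ) + Curv2.deg k X (Mero.divMod E) 1 := by
  classical
  haveI := CurveCohLib.isNoetherian_of_proper (k := k) (X := X)
  have hfree : ∀ D : Mero.Divisor X, FlatMod.IsFinLocFree (Mero.divMod D) := fun D x =>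
    let ⟨U, hx, he⟩ := InvEnd.isFinLocFreeOfRank_one (DivX.isInvertible_divMod D) x; ⟨U, 1, hx, he⟩
  have hcoh : ∀ D : Mero.Divisor X, Coh.IsCoh (Mero.divMod D) := fun D => CurveDeg.isCoh_of_isFinLocFree (hfree D)
  let ι := inclMap 1 E (divCond_of_isEffective hE)
  haveI : Mono ι := mono_inclMap _ _ _
  let Q := cokernel ι
  have hQ : Coh.IsCoh Q := QCoh.isCoh_cokernel (hcoh 1).1 (hcoh E) ι
  have hcl : ∀ y ∈ CohB1.support Q, IsClosed ({y} : Set X) := fun y hy => by_contra fun h =>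
    hy (subsingleton_stalk_cokernel _ (eq_one_of_notClosed hequi hE h))
  have hS := CurveSlope.shortExact_cokernel_of_mono ι
  obtain ⟨e1⟩ := nonempty_iso_divMod_one (X := X)
  have hQe : Curv2.euler k X Q = Curv2.deg k X (Mero.divMod E) 1 := by
    have h := CurveCohLib.euler_additive (k := k) hS (hcoh 1) (hcoh E) hQ
    dsimp only at h
    rw [Curv2.deg, h, CurveCohLib.euler_congr (k := k) e1]
    push_cast
    ring
  let F := DCoh.tensorBi.obj (Mero.divMod D')
  have hT := CurveTensor.shortExact_tensor (hfree D') _ _ _ hS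
  have hTQ : Coh.IsCoh (F.obj Q) := CurveTensor.isCoh_tensor (hfree D') hQ
  have hTQ0 : (Module.finrank k (Coh.HH X (F.obj Q) 0) : ℤ) = Curv2.deg k X (Mero.divMod E) 1 := by
    have h := CurveTensor.euler_tensor_torsion k (InvEnd.isFinLocFreeOfRank_one (DivX.isInvertible_divMod D')) hQ hcl
    rw [CurveCohLib.euler_eq_finrank_zero hTQ (fun y hy => hcl y (CurveTensor.support_tensor_subset hy)), hQe] at h
    rw [h, Nat.cast_one, one_mul]
  haveI := DivX.isIso_mulMap D' 1
  haveI := DivX.isIso_mulMap D' E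
  let a : F.obj (Mero.divMod 1) ≅ Mero.divMod D' :=
    asIso (DivX.mulMap D' 1) ≪≫ eqToIso (congrArg Mero.divMod (mul_one D'))
  let b : F.obj (Mero.divMod E) ≅ Mero.divMod (D' * E) := asIso (DivX.mulMap D' E)
  have ea := (CurveCohLib.hhEquiv (k := k) a 0).finrank_eq
  have eb := (CurveCohLib.hhEquiv (k := k) b 0).finrank_eq
  rw [← ea, ← eb, ← hTQ0]
  haveI := S0002.result k X _ (CurveTensor.isCoh_tensor (hfree D') (hcoh E)) 0
  haveI := S0002.result k X _ hTQ 0
  have hinj := CurveCohLib.mapLin_f_zero_injective k hT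
  have hsum := LinearMap.finrank_range_add_finrank_ker (PnCoh.Finite.mapLin k (F.map (cokernel.π ι)) 0)
  rw [CurveCohLib.ker_mapLin_g k hT 0, LinearMap.finrank_range_of_inj hinj] at hsum
  have hle := Submodule.finrank_le (LinearMap.range (PnCoh.Finite.mapLin k (F.map (cokernel.π ι)) 0))
  change _ + Module.finrank k (Coh.HH X (F.obj (Mero.divMod 1)) 0) =
    Module.finrank k (Coh.HH X (F.obj (Mero.divMod E)) 0) at hsum
  change _ ≤ Module.finrank k (Coh.HH X (F.obj Q) 0) at hle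
  constructor
  · exact LinearMap.finrank_le_finrank_of_injective hinj
  · omega

end Groth.Agent.MeroCurveLib
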